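import Cfsg.Agent.R2.T1.B2.Emb_mg_m3
import Cfsg.Agent.R2.T1.T2p.Msk
import Cfsg.Agent.R2.T1.Inf.Cnt_m3
import Cfsg.Agent.R2.T1.Five.TwoE_m3
import Cfsg.Agent.R2.T1.Five.CaseII_m3
import Cfsg.Agent.H952.F4.MaxA
import Cfsg.Agent.S1054
import Mathlib
import Cfsg.Agent.H952.F4.Scott_m3
import Cfsg.Agent.R2.PX.W.Cl_m3
import Cfsg.Agent.R2.T1.Odd.Nrm
import Cfsg.Agent.FastGrp
import Cfsg.Agent.Prune
set_option linter.all false

section
prune_inst 0x7fffefffbbfcfddfffff7e7ffedcdffdffbbbfffe6fff9cb7fe0e7ffab9f6b84cfe5fbaf8ffb12fe1ff7e23490fc7b53fd7eefffea6bdc7ffffd5ff45ffbffcffdf7bd0951ff9cb41fbe2fff83f0778e7f3fffffffffffffffffffffffffffbeffffffffffff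

-- part: R2/T1/Main/Skel
section
prune_inst 0x10200000000000000000000000008000000140000000000000000000000000040000000000000000000000000000000000000000000000000000000000000000000000000000000000000000000000000000000000000000000
set_option linter.all false
open scoped Cfsg.Agent.FastGrp

-- part: R2/T1/Odd/Nine7
section
/-!
# S5771, ODD5: `n = 9`, `p ≠ 2, 3, 5`: the 3-cycles are not of type 20 (helper11)

`N i j u` : the translates of `v_7(u) = N 7 8 u` under `A_9`; `T` : `N j i u = N i j (T u)`, `T = δ = ± 1`; the Gram matrix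
of the `N i 8 u` (`4 ≤ i ≤ 7`) and of `N 4 5 u` contradicts `dim V^{A_4} = 8`.
-/

set_option autoImplicit false
set_option maxRecDepth 100000

namespace Cfsg.Agent.R2.T1.Odd

open Cfsg Cfsg.Lie Module Equiv Equiv.Perm
open Cfsg.Agent.H943.E7V.Block (D1 rho)
open Cfsg.Agent.H952.F4 (ev es MaxAlt)
open Cfsg.Agent.R2.T1.Art

universe u v

/-- two points are mapped to two points by an even permutation -/
theorem two_trans9 {i j : Fin 9} (h : i ≠ j) : ∃ g : A9, (g : Perm (Fin 9)) 7 = i ∧ (g : Perm (Fin 9)) 8 = j := by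
  have h0 : swap 7 i j ≠ 7 := by
    intro h1
    have h2 := congrArg (swap 7 i) h1
    rw [swap_apply_self, swap_apply_left] at h2
    exact h h2.symm
  have e0 : (swap 7 i * swap 8 (swap 7 i j)) 7 = i := by
    rw [Perm.mul_apply, swap_apply_of_ne_of_ne (by decide) h0.symm, swap_apply_left]
  have e1 : (swap 7 i * swap 8 (swap 7 i j)) 8 = j := by
    rw [Perm.mul_apply, swap_apply_left, swap_apply_self]
  generalize swap 7 i * swap 8 (swap 7 i j) = σ at e0 e1
  by_cases hs : sign σ = 1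
  · exact ⟨⟨σ, mem_alternatingGroup.2 hs⟩, e0, e1⟩
  · have h3 : sign (σ * swap 2 3) = 1 := by
      rw [Perm.sign_mul, sign_swap (by decide), (Int.units_eq_one_or _).resolve_left hs]
      decide
    refine ⟨⟨σ * swap 2 3, mem_alternatingGroup.2 h3⟩, ?_, ?_⟩
    · show (σ * swap 2 3 : Perm (Fin 9)) 7 = i
      rw [Perm.mul_apply, swap_apply_of_ne_of_ne (by decide) (by decide), e0]
    · show (σ * swap 2 3 : Perm (Fin 9)) 8 = j
      rw [Perm.mul_apply, swap_apply_of_ne_of_ne (by decide) (by decide), e1]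

section
variable {F : Type u} [Field F] {W : Type v} [AddCommGroup W] [Module F W]
  (ρ : Representation F A9 W) {B : W →ₗ[F] W →ₗ[F] F}

/-- restriction to `A_8` -/
noncomputable abbrev r8' : Representation F A8 W := MonoidHom.comp ρ emb89

/-- `U` -/
noncomputable abbrev UU : Submodule F W := inv (r8' ρ) (Tg 8 gQ)

open Classical in
/-- the maps `n_ij` -/
noncomputable def N (i j : Fin 9) : W →ₗ[F] W :=
  if h : ∃ a : A9, (a : Perm (Fin 9)) 7 = i ∧ (a : Perm (Fin 9)) 8 = j then ρ (Classical.choose h) ∘ₗ vi (r8' ρ) 7 else 0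

variable {ρ} (hC : CfgT (r8' ρ) B)
include hC

theorem v7_fix {a : A9} (h7 : (a : Perm (Fin 9)) 7 = 7) (h8 : (a : Perm (Fin 9)) 8 = 8) {u : W} (hu : u ∈ UU ρ) :
    ρ a (vi (r8' ρ) 7 u) = vi (r8' ρ) 7 u := by
  have h1 : vi (r8' ρ) 7 u ∈ fx7 ρ := by
    rw [fx7_eq hC]
    exact ⟨u, hu, rfl⟩
  exact h1 a h7 h8

theorem N_eq {a : A9} {i j : Fin 9} (h7 : (a : Perm (Fin 9)) 7 = i) (h8 : (a : Perm (Fin 9)) 8 = j) {u : W} (hu : u ∈ UU ρ) :
    N ρ i j u = ρ a (vi (r8' ρ) 7 u) := by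
  have h : ∃ a : A9, (a : Perm (Fin 9)) 7 = i ∧ (a : Perm (Fin 9)) 8 = j := ⟨a, h7, h8⟩
  rw [N, dif_pos h]
  obtain ⟨k7, k8⟩ := Classical.choose_spec h
  generalize Classical.choose h = k at k7 k8
  have h1 : ρ (k⁻¹ * a) (vi (r8' ρ) 7 u) = vi (r8' ρ) 7 u := by
    apply v7_fix hC _ _ hu
    · rw [Subgroup.coe_mul, Perm.mul_apply, Subgroup.coe_inv, Perm.inv_eq_iff_eq, h7, k7]
    · rw [Subgroup.coe_mul, Perm.mul_apply, Subgroup.coe_inv, Perm.inv_eq_iff_eq, h8, k8]
  show ρ k (vi (r8' ρ) 7 u) = _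
  conv_lhs => rw [← h1]
  rw [← ρ_mul, mul_inv_cancel_left]

theorem N_act (g : A9) {i j : Fin 9} (hij : i ≠ j) {u : W} (hu : u ∈ UU ρ) :
    ρ g (N ρ i j u) = N ρ ((g : Perm (Fin 9)) i) ((g : Perm (Fin 9)) j) u := by
  obtain ⟨a, h7, h8⟩ := two_trans9 hij
  rw [N_eq hC h7 h8 hu, ← ρ_mul]
  refine (N_eq hC ?_ ?_ hu).symm
  · rw [Subgroup.coe_mul, Perm.mul_apply, h7]
  · rw [Subgroup.coe_mul, Perm.mul_apply, h8]

omit hC in
theorem N_self (i : Fin 9) : N ρ i i = 0 := by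
  rw [N, dif_neg]
  rintro ⟨a, h7, h8⟩
  exact absurd ((a : Perm (Fin 9)).injective (h7.trans h8.symm)) (by decide)

theorem N_eight (i : Fin 8) {u : W} (hu : u ∈ UU ρ) : N ρ i.castSucc 8 u = vi (r8' ρ) i u := by
  obtain ⟨a, ha⟩ := trans1 7 i
  have h7 : ((emb89 a : A9) : Perm (Fin 9)) 7 = i.castSucc := by
    have h1 := emb8_lt (n := 9) (by norm_num) a 7
    have h2 : (⟨(7 : Fin 8).val, (7 : Fin 8).2.trans_le (by norm_num)⟩ : Fin 9) = 7 := rfl
    rw [h2] at h1
    rw [h1, ha]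
    rfl
  have h8 : ((emb89 a : A9) : Perm (Fin 9)) 8 = 8 := emb8_ge (n := 9) (by norm_num) a 8 le_rfl
  rw [N_eq hC h7 h8 hu]
  have h3 := vi_equi hC.toCfgU a 7 hu
  rw [ha] at h3
  exact h3

theorem N_sum8 {u : W} (hu : u ∈ UU ρ) : ∑ i, N ρ i 8 u = 0 := by
  rw [Fin.sum_univ_castSucc]
  have h1 : N ρ (Fin.last 8) 8 u = 0 := by
    have h2 : N ρ (Fin.last 8) 8 = 0 := N_self 8
    rw [h2]
    rfl
  rw [h1, add_zero, Finset.sum_congr rfl fun i _ => N_eight hC i hu]
  exact vi_sum hC hu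

theorem N_sum (r : Fin 9) {u : W} (hu : u ∈ UU ρ) : ∑ i, N ρ i r u = 0 := by
  obtain ⟨i, hi⟩ : ∃ i : Fin 9, i ≠ r := by
    by_cases h : r = 0
    · exact ⟨1, by rw [h]; decide⟩
    · exact ⟨0, fun h' => h h'.symm⟩
  obtain ⟨g, -, h8⟩ := two_trans9 hi
  have h1 := congrArg (ρ g) (N_sum8 hC hu)
  rw [map_zero, map_sum] at h1
  have h2 : ∀ i, ρ g (N ρ i 8 u) = N ρ ((g : Perm (Fin 9)) i) r u := by
    intro i
    by_cases hi : i = 8
    · subst hi
      have e1 : N ρ 8 8 u = 0 := by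
        have h3 : N ρ (8 : Fin 9) 8 = 0 := N_self 8
        rw [h3]; rfl
      have e2 : N ρ r r u = 0 := by
        have h3 : N ρ r r = 0 := N_self r
        rw [h3]; rfl
      rw [e1, map_zero, h8, e2]
    · rw [N_act hC g hi hu, h8]
  rw [Finset.sum_congr rfl fun i _ => h2 i] at h1
  rw [← h1]
  exact (Equiv.sum_comp (g : Perm (Fin 9)) (fun i => N ρ i r u)).symm

/-- the Gram matrix of the `n_ir`, `n_jr` -/
theorem N_gram (hB : ∀ g x y, B (ρ g x) (ρ g y) = B x y) {i j r : Fin 9} (hi : i ≠ r) (hj : j ≠ r) {u u' : W}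
    (hu : u ∈ UU ρ) (hu' : u' ∈ UU ρ) : 16 * B (N ρ i r u) (N ρ j r u') = (if i = j then 7 else -1) * B u u' := by
  obtain ⟨g, -, h8⟩ := two_trans9 hi
  have hg : ∀ k : Fin 9, k ≠ r → ∃ k' : Fin 8, (g : Perm (Fin 9)) k'.castSucc = k := by
    intro k hk
    have h1 : ((g⁻¹ : A9) : Perm (Fin 9)) k ≠ 8 := by
      intro h2
      rw [Subgroup.coe_inv, Perm.inv_eq_iff_eq, h8] at h2
      exact hk h2
    refine ⟨(((g⁻¹ : A9) : Perm (Fin 9)) k).castPred h1, ?_⟩
    rw [Fin.castSucc_castPred, ← Perm.mul_apply, ← Subgroup.coe_mul, mul_inv_cancel]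
    rfl
  obtain ⟨i', hi'⟩ := hg i hi
  obtain ⟨j', hj'⟩ := hg j hj
  have e1 : ∀ (k : Fin 8) {u : W}, u ∈ UU ρ → N ρ ((g : Perm (Fin 9)) k.castSucc) r u = ρ g (vi (r8' ρ) k u) := by
    intro k u hu
    have h9 : k.castSucc ≠ (8 : Fin 9) := (Fin.castSucc_lt_last k).ne
    rw [← N_eight hC k hu, N_act hC g h9 hu, h8]
  rw [← hi', ← hj', e1 i' hu, e1 j' hu', hB, gram hC hu hu']
  congr 1
  by_cases h : i' = j'
  · rw [if_pos h, if_pos (by rw [h])]
  · rw [if_neg h, if_neg]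
    intro h2
    exact h (Fin.castSucc_injective 8 ((g : Perm (Fin 9)).injective h2))

/-- the map `T` -/
theorem exists_T : ∃ T : W →ₗ[F] W, (∀ u ∈ UU ρ, T u ∈ UU ρ) ∧ ∀ u ∈ UU ρ, N ρ 8 7 u = N ρ 7 8 (T u) := by
  choose k hk using fun i : Fin 8 => trans1 7 i
  obtain ⟨s, s7, s8⟩ := two_trans9 (i := 8) (j := 7) (by decide)
  let T : W →ₗ[F] W := ∑ i ∈ A0, (r8' ρ) (k i) ∘ₗ (ρ s ∘ₗ vi (r8' ρ) 7)
  have key : ∀ u ∈ UU ρ, T u ∈ UU ρ ∧ ρ s (vi (r8' ρ) 7 u) = vi (r8' ρ) 7 (T u) := by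
    intro u hu
    obtain ⟨u', hu', h1⟩ := fix_pt hC (w := ρ s (vi (r8' ρ) 7 u)) (by
      intro g hg
      have h2 : ρ (s⁻¹ * emb89 g * s) (vi (r8' ρ) 7 u) = vi (r8' ρ) 7 u := by
        have e7 : ((emb89 g : A9) : Perm (Fin 9)) 7 = 7 := fix7_iff.2 hg
        have e8 : ((emb89 g : A9) : Perm (Fin 9)) 8 = 8 := emb8_ge (n := 9) (by norm_num) g 8 le_rfl
        apply v7_fix hC _ _ hu
        · rw [Subgroup.coe_mul, Subgroup.coe_mul, Perm.mul_apply, Perm.mul_apply, s7, e8, Subgroup.coe_inv,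
            Perm.inv_eq_iff_eq, s7]
        · rw [Subgroup.coe_mul, Subgroup.coe_mul, Perm.mul_apply, Perm.mul_apply, s8, e7, Subgroup.coe_inv,
            Perm.inv_eq_iff_eq, s8]
      show ρ (emb89 g) (ρ s _) = _
      conv_rhs => rw [← h2]
      rw [← ρ_mul, ← ρ_mul]
      congr 2
      group)
    have h2 : T u = u' := by
      show (∑ i ∈ A0, (r8' ρ) (k i) ∘ₗ (ρ s ∘ₗ vi (r8' ρ) 7)) u = u'
      rw [LinearMap.sum_apply]
      have h3 : ∀ i ∈ A0, ((r8' ρ) (k i) ∘ₗ (ρ s ∘ₗ vi (r8' ρ) 7)) u = vi (r8' ρ) i u' := by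
        intro i _
        show (r8' ρ) (k i) (ρ s (vi (r8' ρ) 7 u)) = _
        rw [h1, vi_equi hC.toCfgU (k i) 7 hu', hk]
      rw [Finset.sum_congr rfl h3, vi_four hC hu']
    rw [h2]
    exact ⟨hu', h1⟩
  refine ⟨T, fun u hu => (key u hu).1, fun u hu => ?_⟩
  rw [N_eq hC s7 s8 hu, (key u hu).2]
  have h3 := N_eight hC 7 (key u hu).1
  exact h3.symm

theorem N_swap {T : W →ₗ[F] W} (hT : ∀ u ∈ UU ρ, T u ∈ UU ρ) (hT' : ∀ u ∈ UU ρ, N ρ 8 7 u = N ρ 7 8 (T u)) {i j : Fin 9}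
    (hij : i ≠ j) {u : W} (hu : u ∈ UU ρ) : N ρ j i u = N ρ i j (T u) := by
  obtain ⟨a, h7, h8⟩ := two_trans9 hij
  have h1 := congrArg (ρ a) (hT' u hu)
  rwa [N_act hC a (by decide) hu, N_act hC a (by decide) (hT u hu), h7, h8] at h1

theorem N_inj {i j : Fin 9} (hij : i ≠ j) {u : W} (hu : u ∈ UU ρ) (h : N ρ i j u = 0) : u = 0 := by
  obtain ⟨a, h7, h8⟩ := two_trans9 hij
  rw [N_eq hC h7 h8 hu] at h
  have h1 := congrArg (ρ a⁻¹) h
  rw [ρ_inv, map_zero] at h1
  exact vi_inj hC hu h1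

/-- disjoint pairs -/
theorem gam (hB : ∀ g x y, B (ρ g x) (ρ g y) = B x y) {l : List (ℕ × ℕ)} (hv : vl 9 l = true) {a b c d : Fin 9}
    (ha : ap l 4 = a.val) (hb : ap l 5 = b.val) (hc : ap l 0 = c.val) (hd : ap l 8 = d.val) {u u' : W}
    (hu : u ∈ UU ρ) (hu' : u' ∈ UU ρ) : B (N ρ a b u) (N ρ c d u') = B (N ρ 4 5 u) (N ρ 0 8 u') := by
  have hap : ∀ i : Fin 9, ((P 9 l : Perm (Fin 9)) i).val = ap l i.val := fun i => by
    rw [coe_P le_rfl hv, pm_apply (vl_iff.1 hv).2]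
  have e4 : (P 9 l : Perm (Fin 9)) 4 = a := Fin.ext ((hap 4).trans ha)
  have e5 : (P 9 l : Perm (Fin 9)) 5 = b := Fin.ext ((hap 5).trans hb)
  have e0 : (P 9 l : Perm (Fin 9)) 0 = c := Fin.ext ((hap 0).trans hc)
  have e8 : (P 9 l : Perm (Fin 9)) 8 = d := Fin.ext ((hap 8).trans hd)
  rw [← hB (P 9 l) (N ρ 4 5 u) (N ρ 0 8 u'), N_act hC _ (by decide) hu, N_act hC _ (by decide) hu', e4, e5, e0, e8]

omit hC in
theorem sum9 {M : Type*} [AddCommMonoid M] (f : Fin 9 → M) :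
    ∑ i, f i = f 0 + f 1 + f 2 + f 3 + f 4 + f 5 + f 6 + f 7 + f 8 := by
  rw [Fin.sum_univ_castSucc, Fin.sum_univ_eight]
  rfl

/-- the two sum relations -/
theorem rel1 (hB : ∀ g x y, B (ρ g x) (ρ g y) = B x y) {u u' : W} (hu : u ∈ UU ρ) (hu' : u' ∈ UU ρ) :
    B (N ρ 4 5 u) (N ρ 4 8 u') + B (N ρ 4 5 u) (N ρ 5 8 u') + 6 * B (N ρ 4 5 u) (N ρ 0 8 u') = 0 := by
  have h1 := congrArg (B (N ρ 4 5 u)) (N_sum hC 8 hu')
  rw [map_zero, map_sum, sum9] at h1
  have h8 : N ρ 8 8 u' = 0 := by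
    have h3 : N ρ (8 : Fin 9) 8 = 0 := N_self 8
    rw [h3]; rfl
  rw [h8, map_zero, gam hC hB (l := [(0, 1), (2, 3)]) (a := 4) (b := 5) (c := 1) (d := 8) (by decide) (by decide) (by decide)
      (by decide) (by decide) hu hu',
    gam hC hB (l := [(0, 2), (6, 7)]) (a := 4) (b := 5) (c := 2) (d := 8) (by decide) (by decide) (by decide)
      (by decide) (by decide) hu hu',
    gam hC hB (l := [(0, 3), (6, 7)]) (a := 4) (b := 5) (c := 3) (d := 8) (by decide) (by decide) (by decide)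
      (by decide) (by decide) hu hu',
    gam hC hB (l := [(0, 6), (2, 3)]) (a := 4) (b := 5) (c := 6) (d := 8) (by decide) (by decide) (by decide)
      (by decide) (by decide) hu hu',
    gam hC hB (l := [(0, 7), (2, 3)]) (a := 4) (b := 5) (c := 7) (d := 8) (by decide) (by decide) (by decide)
      (by decide) (by decide) hu hu'] at h1
  linear_combination h1

theorem rel2 (hB : ∀ g x y, B (ρ g x) (ρ g y) = B x y) {u u' : W} (hu : u ∈ UU ρ) (hu' : u' ∈ UU ρ) :
    B (N ρ 4 5 u) (N ρ 4 8 u') + B (N ρ 8 5 u) (N ρ 4 8 u') + 6 * B (N ρ 4 5 u) (N ρ 0 8 u') = 0 := by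
  have h1 := congrArg (fun x => B x (N ρ 4 8 u')) (N_sum hC 5 hu)
  simp only [map_sum, LinearMap.sum_apply, map_zero, LinearMap.zero_apply] at h1
  rw [sum9] at h1
  have h8 : N ρ 5 5 u = 0 := by
    have h3 : N ρ (5 : Fin 9) 5 = 0 := N_self 5
    rw [h3]; rfl
  rw [h8, map_zero, LinearMap.zero_apply,
    gam hC hB (l := [(0, 4), (2, 3)]) (a := 0) (b := 5) (c := 4) (d := 8) (by decide) (by decide) (by decide)
      (by decide) (by decide) hu hu',
    gam hC hB (l := [(0, 4), (4, 1)]) (a := 1) (b := 5) (c := 4) (d := 8) (by decide) (by decide) (by decide)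
      (by decide) (by decide) hu hu',
    gam hC hB (l := [(0, 4), (4, 2)]) (a := 2) (b := 5) (c := 4) (d := 8) (by decide) (by decide) (by decide)
      (by decide) (by decide) hu hu',
    gam hC hB (l := [(0, 4), (4, 3)]) (a := 3) (b := 5) (c := 4) (d := 8) (by decide) (by decide) (by decide)
      (by decide) (by decide) hu hu',
    gam hC hB (l := [(0, 4), (4, 6)]) (a := 6) (b := 5) (c := 4) (d := 8) (by decide) (by decide) (by decide)
      (by decide) (by decide) hu hu',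
    gam hC hB (l := [(0, 4), (4, 7)]) (a := 7) (b := 5) (c := 4) (d := 8) (by decide) (by decide) (by decide)
      (by decide) (by decide) hu hu'] at h1
  linear_combination h1

seal _root_.Finset.card _root_.Finset.filter _root_.Equiv.swap in
/-- **`T` is a scalar `δ = ± 1`** -/
theorem exists_delta (hB : ∀ g x y, B (ρ g x) (ρ g y) = B x y) : ∃ δ : F, δ * δ = 1 ∧
    ∀ i j : Fin 9, i ≠ j → ∀ u ∈ UU ρ, N ρ j i u = δ • N ρ i j u := by
  obtain ⟨T, hT, hT'⟩ := exists_T hC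
  have h16 := sixteen_ne hC.two
  have hsw := fun {i j : Fin 9} (hij : i ≠ j) {u : W} (hu : u ∈ UU ρ) => N_swap hC hT hT' hij hu
  have hadj : ∀ u ∈ UU ρ, ∀ u' ∈ UU ρ, B (T u) u' = B u (T u') := by
    intro u hu u' hu'
    have h1 := rel1 hC hB hu hu'
    have h2 := rel2 hC hB hu hu'
    have h3 : B (N ρ 4 5 u) (N ρ 5 8 u') = B (N ρ 8 5 u) (N ρ 4 8 u') := by linear_combination h1 - h2
    rw [hsw (i := 8) (j := 5) (by decide) hu', hsw (i := 5) (j := 8) (by decide) hu] at h3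
    have h4 := N_gram hC hB (i := 4) (j := 8) (r := 5) (by decide) (by decide) hu (hT u' hu')
    have h5 := N_gram hC hB (i := 5) (j := 4) (r := 8) (by decide) (by decide) (hT u hu) hu'
    rw [if_neg (by decide)] at h4 h5
    linear_combination 16 * h3 - h4 + h5
  obtain ⟨δ, hδ⟩ := two_scal (B := B) (U := UU ρ) (T := T) hC.dim hC.two hC.skew (nd_U le_rfl hC.toCfgU)
    (fun x y => map_add T x y) (fun c x => map_smul T c x) hT hadj
  refine ⟨δ, ?_, ?_⟩
  · obtain ⟨x, y, hx, hy, hxy, -⟩ := exists_basis hC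
    have h1 : N ρ 4 5 ((δ * δ - 1) • x) = 0 := by
      have h2 := hsw (i := 5) (j := 4) (by decide) hx
      have h3 := hsw (i := 4) (j := 5) (by decide) (hT x hx)
      rw [h3, hδ (T x) (hT x hx), hδ x hx, map_smul, map_smul] at h2
      rw [map_smul, sub_smul, one_smul, mul_smul, ← h2, sub_self]
    have h2 := N_inj hC (by decide) (Submodule.smul_mem _ _ hx) h1
    rcases smul_eq_zero.1 h2 with h3 | h3
    · exact sub_eq_zero.1 h3
    · exfalso
      apply hxy
      rw [h3, map_zero, LinearMap.zero_apply]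
  · intro i j hij u hu
    rw [hsw hij hu, hδ u hu, map_smul]

/-- **the contradiction** -/
theorem gram_false (hB : ∀ g x y, B (ρ g x) (ρ g y) = B x y) (h3 : (3 : F) ≠ 0)
    (hdim : finrank F ↥(inv ρ (Tg 9 gA4)) = 8) : False := by
  obtain ⟨δ, hδ, hsw⟩ := exists_delta hC hB
  have h2 := hC.two
  have h5 := hC.five
  have h16 := sixteen_ne h2
  have hfin := hC.fin
  -- `v_i`, `4 ≤ i ≤ 7`
  let c : Fin 4 → Fin 9 := ![4, 5, 6, 7]
  have hc8 : ∀ i, c i ≠ 8 := by decide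
  have hcinj : ∀ i j, c i = c j ↔ i = j := by decide
  let Φ : (Fin 4 → ↥(UU ρ)) →ₗ[F] W := ∑ i, (N ρ (c i) 8) ∘ₗ ((UU ρ).subtype ∘ₗ LinearMap.proj i)
  have hΦ : ∀ x, Φ x = ∑ i, N ρ (c i) 8 (x i : W) := fun x => by
    show (∑ i, (N ρ (c i) 8) ∘ₗ ((UU ρ).subtype ∘ₗ LinearMap.proj i)) x = _
    rw [LinearMap.sum_apply]
    rfl
  -- orthogonality
  have hort : ∀ x : Fin 4 → ↥(UU ρ), (∀ j, ∀ u' ∈ UU ρ, B (Φ x) (N ρ (c j) 8 u') = 0) → x = 0 := by
    intro x hx
    have h4 : ∀ j, (8 : F) • (x j : W) = ∑ i, (x i : W) := by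
      intro j
      have h6 : (8 : F) • (x j : W) - ∑ i, (x i : W) = 0 := by
        apply nd_U le_rfl hC.toCfgU _ (sub_mem (Submodule.smul_mem _ _ (x j).2) (sum_mem fun i _ => (x i).2))
        intro u' hu'
        have h7 := hx j u' hu'
        rw [hΦ, map_sum, LinearMap.sum_apply] at h7
        have h8 : ∀ i, 16 * B (N ρ (c i) 8 (x i : W)) (N ρ (c j) 8 u') = (if i = j then 8 * B (x i : W) u' else 0) - B (x i : W) u' := by
          intro i
          rw [N_gram hC hB (hc8 i) (hc8 j) (x i).2 hu']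
          by_cases hij : i = j
          · rw [if_pos ((hcinj i j).2 hij), if_pos hij]; ring
          · rw [if_neg (fun h => hij ((hcinj i j).1 h)), if_neg hij]; ring
        have h9 : ∑ i, 16 * B (N ρ (c i) 8 (x i : W)) (N ρ (c j) 8 u') = 0 := by rw [← Finset.mul_sum, h7, mul_zero]
        rw [Finset.sum_congr rfl fun i _ => h8 i, Finset.sum_sub_distrib, Finset.sum_ite_eq' Finset.univ j,
          if_pos (Finset.mem_univ _)] at h9
        rw [map_sub, LinearMap.sub_apply, map_smul, LinearMap.smul_apply, map_sum, LinearMap.sum_apply, smul_eq_mul]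
        exact h9
      exact sub_eq_zero.1 h6
    have h6 : (4 : F) • ∑ i, (x i : W) = 0 := by
      have h7 : ∑ j, (8 : F) • (x j : W) = ∑ _j : Fin 4, ∑ i, (x i : W) := Finset.sum_congr rfl fun j _ => h4 j
      rw [← Finset.smul_sum, Finset.sum_const, Finset.card_univ, Fintype.card_fin, ← Nat.cast_smul_eq_nsmul F] at h7
      have h8 : (4 : F) • ∑ i, (x i : W) = (8 : F) • ∑ i, (x i : W) - ((4 : ℕ) : F) • ∑ i, (x i : W) := by
        push_cast
        module
      rw [h8, h7, sub_self]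
    have h44 : (4 : F) ≠ 0 := by
      have : (4 : F) = 2 * 2 := by norm_num
      rw [this]
      exact mul_ne_zero h2 h2
    have h88 : (8 : F) ≠ 0 := by
      have : (8 : F) = 2 * (2 * 2) := by norm_num
      rw [this]
      exact mul_ne_zero h2 (mul_ne_zero h2 h2)
    have h7 := (smul_eq_zero.1 h6).resolve_left h44
    funext j
    have h8 := h4 j
    rw [h7] at h8
    exact Subtype.ext ((smul_eq_zero.1 h8).resolve_left h88)
  have hinj : Function.Injective Φ := by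
    rw [← LinearMap.ker_eq_bot, LinearMap.ker_eq_bot']
    intro x hx
    apply hort x
    intro j u' hu'
    rw [hx, map_zero, LinearMap.zero_apply]
  -- the fixed points of `A_4`
  have hfixA : ∀ {i j : Fin 9} (hij : i ≠ j) (hi : 4 ≤ i.val) (hj : 4 ≤ j.val) {u : W} (hu : u ∈ UU ρ),
      N ρ i j u ∈ inv ρ (Tg 9 gA4) := by
    intro i j hij hi hj u hu
    rw [mem_U]
    intro g hg
    have key0 : ∀ g ∈ gA4, vl 9 g = true ∧ ∀ i < 9, 4 ≤ i → ap g i = i := by decide
    obtain ⟨hv, key⟩ := key0 g hg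
    have hap : ∀ i : Fin 9, ((P 9 g : Perm (Fin 9)) i).val = ap g i.val := fun i => by
      rw [coe_P le_rfl hv, pm_apply (vl_iff.1 hv).2]
    have e1 : ∀ i : Fin 9, 4 ≤ i.val → (P 9 g : Perm (Fin 9)) i = i := fun i hi => Fin.ext ((hap i).trans (key _ i.2 hi))
    rw [N_act hC _ hij hu, e1 i hi, e1 j hj]
  have hrange : LinearMap.range Φ = inv ρ (Tg 9 gA4) := by
    apply Submodule.eq_of_le_of_finrank_eq
    · rintro _ ⟨x, rfl⟩
      rw [hΦ]
      refine sum_mem fun i _ => hfixA (hc8 i) ?_ (by decide) (x i).2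
      revert i
      decide
    · rw [LinearMap.finrank_range_of_inj hinj, Module.finrank_pi_fintype, hdim]
      rw [Finset.sum_congr rfl fun _ _ => hC.dim]
      rfl
  -- the Gram matrix
  obtain ⟨x, y, hx, hy, hxy, -⟩ := exists_basis hC
  have g48 : ∀ u ∈ UU ρ, ∀ u' ∈ UU ρ, 16 * B (N ρ 4 5 u) (N ρ 4 8 u') = - B u u' := by
    intro u hu u' hu'
    rw [hsw 5 4 (by decide) u hu, hsw 8 4 (by decide) u' hu', map_smul, map_smul, LinearMap.smul_apply]
    have h4 := N_gram hC hB (i := 5) (j := 8) (r := 4) (by decide) (by decide) hu hu'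
    rw [if_neg (by decide)] at h4
    simp only [smul_eq_mul]
    linear_combination (δ * δ) * h4 - B u u' * hδ
  have g58 : ∀ u ∈ UU ρ, ∀ u' ∈ UU ρ, 16 * B (N ρ 4 5 u) (N ρ 5 8 u') = - δ * B u u' := by
    intro u hu u' hu'
    rw [hsw 8 5 (by decide) u' hu', map_smul]
    have h4 := N_gram hC hB (i := 4) (j := 8) (r := 5) (by decide) (by decide) hu hu'
    rw [if_neg (by decide)] at h4
    simp only [smul_eq_mul]
    linear_combination δ * h4
  have g08 : ∀ u ∈ UU ρ, ∀ u' ∈ UU ρ, 16 * (6 * B (N ρ 4 5 u) (N ρ 0 8 u')) = (1 + δ) * B u u' := by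
    intro u hu u' hu'
    linear_combination 16 * rel1 hC hB hu hu' - g48 u hu u' hu' - g58 u hu u' hu'
  have g68 : ∀ u ∈ UU ρ, ∀ u' ∈ UU ρ, B (N ρ 4 5 u) (N ρ 6 8 u') = B (N ρ 4 5 u) (N ρ 0 8 u') := fun u hu u' hu' =>
    gam hC hB (l := [(0, 6), (2, 3)]) (a := 4) (b := 5) (c := 6) (d := 8) (by decide) (by decide) (by decide)
      (by decide) (by decide) hu hu'
  have g78 : ∀ u ∈ UU ρ, ∀ u' ∈ UU ρ, B (N ρ 4 5 u) (N ρ 7 8 u') = B (N ρ 4 5 u) (N ρ 0 8 u') := fun u hu u' hu' =>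
    gam hC hB (l := [(0, 7), (2, 3)]) (a := 4) (b := 5) (c := 7) (d := 8) (by decide) (by decide) (by decide)
      (by decide) (by decide) hu hu'
  have g45 : 16 * B (N ρ 4 5 x) (N ρ 4 5 y) = 7 * B x y := by
    have h4 := N_gram hC hB (i := 4) (j := 4) (r := 5) (by decide) (by decide) hx hy
    rw [if_pos rfl] at h4
    exact h4
  -- the projection
  have hmain : ∀ κ : F, (∀ u' ∈ UU ρ, ∀ j, B (N ρ 4 5 x - κ • (N ρ 4 8 x + δ • N ρ 5 8 x)) (N ρ (c j) 8 u') = 0) →
      N ρ 4 5 x = κ • (N ρ 4 8 x + δ • N ρ 5 8 x) := by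
    intro κ hκ
    have h4 : N ρ 4 5 x - κ • (N ρ 4 8 x + δ • N ρ 5 8 x) ∈ LinearMap.range Φ := by
      rw [hrange]
      refine sub_mem (hfixA (by decide) (by decide) (by decide) hx) (Submodule.smul_mem _ _ (add_mem
        (hfixA (by decide) (by decide) (by decide) hx) (Submodule.smul_mem _ _ (hfixA (by decide) (by decide) (by decide) hx))))
    obtain ⟨z, hz⟩ := h4
    have h6 : z = 0 := hort z (by
      intro j u' hu'
      rw [hz]
      exact hκ u' hu' j)
    rw [h6, map_zero] at hz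
    exact (sub_eq_zero.1 hz.symm)
  have n88 : ∀ u ∈ UU ρ, ∀ u' ∈ UU ρ, ∀ i j : Fin 9, i ≠ 8 → j ≠ 8 → 
      16 * B (N ρ i 8 u) (N ρ j 8 u') = (if i = j then 7 else -1) * B u u' := fun u hu u' hu' i j hi hj => N_gram hC hB hi hj hu hu'
  have hfinal : ∀ κ : F, N ρ 4 5 x = κ • (N ρ 4 8 x + δ • N ρ 5 8 x) → (7 + 2 * κ) * B x y = 0 := by
    intro κ hκ
    have e1 : B (N ρ 4 8 x) (N ρ 4 5 y) = - B (N ρ 4 5 y) (N ρ 4 8 x) := hC.skew _ _
    have e2 : B (N ρ 5 8 x) (N ρ 4 5 y) = - B (N ρ 4 5 y) (N ρ 5 8 x) := hC.skew _ _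
    have e3 := g48 y hy x hx
    have e4 := g58 y hy x hx
    have e5 : B y x = - B x y := hC.skew _ _
    have h4 := g45
    rw [hκ, map_smul, LinearMap.smul_apply, map_add, LinearMap.add_apply, map_smul, LinearMap.smul_apply, e1, e2] at h4
    simp only [smul_eq_mul] at h4
    rw [e5] at e3 e4
    linear_combination -h4 - κ * e3 - κ * δ * e4 - κ * B x y * hδ
  have h6 : (6 : F) ≠ 0 := by
    have : (6 : F) = 2 * 3 := by norm_num
    rw [this]
    exact mul_ne_zero h2 h3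
  have hδ2 : δ = 1 ∨ δ = -1 := by
    have h4 : (δ - 1) * (δ + 1) = 0 := by linear_combination hδ
    rcases mul_eq_zero.1 h4 with h | h
    · exact Or.inl (sub_eq_zero.1 h)
    · exact Or.inr (eq_neg_of_add_eq_zero_left h)
  have hj4 : ∀ p : Fin 4 → Prop, p 0 → p 1 → p 2 → p 3 → ∀ j, p j := by
    intro p h0 h1 h2 h3 j
    fin_cases j
    · exact h0
    · exact h1
    · exact h2
    · exact h3
  rcases hδ2 with hd | hd
  · -- `δ = 1`, `κ = -1/6`
    have h4 := hmain (-(6 : F)⁻¹) (by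
      intro u' hu'
      have i6 : (6 : F) * (6 : F)⁻¹ = 1 := mul_inv_cancel₀ h6
      have a4 := g48 x hx u' hu'
      have a5 := g58 x hx u' hu'
      have a0 := g08 x hx u' hu'
      have a6 := g68 x hx u' hu'
      have a7 := g78 x hx u' hu'
      have b44 := n88 x hx u' hu' 4 4 (by decide) (by decide)
      have b45 := n88 x hx u' hu' 4 5 (by decide) (by decide)
      have b46 := n88 x hx u' hu' 4 6 (by decide) (by decide)
      have b47 := n88 x hx u' hu' 4 7 (by decide) (by decide)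
      have b54 := n88 x hx u' hu' 5 4 (by decide) (by decide)
      have b55 := n88 x hx u' hu' 5 5 (by decide) (by decide)
      have b56 := n88 x hx u' hu' 5 6 (by decide) (by decide)
      have b57 := n88 x hx u' hu' 5 7 (by decide) (by decide)
      rw [if_pos rfl] at b44 b55
      rw [if_neg (by decide)] at b45 b46 b47 b54 b56 b57
      have h96 : (96 : F) ≠ 0 := by
        have : (96 : F) = 16 * 6 := by norm_num
        rw [this]
        exact mul_ne_zero h16 h6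
      rw [hd] at a5 a0 ⊢
      apply hj4
      · show B (N ρ 4 5 x - (-(6 : F)⁻¹) • (N ρ 4 8 x + (1 : F) • N ρ 5 8 x)) (N ρ 4 8 u') = 0
        rw [map_sub, LinearMap.sub_apply, map_smul, LinearMap.smul_apply, map_add, LinearMap.add_apply, one_smul, smul_eq_mul]
        have h7 : (96 : F) * (B (N ρ 4 5 x) (N ρ 4 8 u') - -(6 : F)⁻¹ * (B (N ρ 4 8 x) (N ρ 4 8 u') + B (N ρ 5 8 x) (N ρ 4 8 u'))) = 0 := by
          linear_combination 6 * a4 + (b44 + b54) + 16 * (B (N ρ 4 8 x) (N ρ 4 8 u') + B (N ρ 5 8 x) (N ρ 4 8 u')) * i6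
        exact (mul_eq_zero.1 h7).resolve_left h96
      · show B (N ρ 4 5 x - (-(6 : F)⁻¹) • (N ρ 4 8 x + (1 : F) • N ρ 5 8 x)) (N ρ 5 8 u') = 0
        rw [map_sub, LinearMap.sub_apply, map_smul, LinearMap.smul_apply, map_add, LinearMap.add_apply, one_smul, smul_eq_mul]
        have h7 : (96 : F) * (B (N ρ 4 5 x) (N ρ 5 8 u') - -(6 : F)⁻¹ * (B (N ρ 4 8 x) (N ρ 5 8 u') + B (N ρ 5 8 x) (N ρ 5 8 u'))) = 0 := by
          linear_combination 6 * a5 + (b45 + b55) + 16 * (B (N ρ 4 8 x) (N ρ 5 8 u') + B (N ρ 5 8 x) (N ρ 5 8 u')) * i6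
        exact (mul_eq_zero.1 h7).resolve_left h96
      · show B (N ρ 4 5 x - (-(6 : F)⁻¹) • (N ρ 4 8 x + (1 : F) • N ρ 5 8 x)) (N ρ 6 8 u') = 0
        rw [map_sub, LinearMap.sub_apply, map_smul, LinearMap.smul_apply, map_add, LinearMap.add_apply, one_smul, smul_eq_mul, a6]
        have h7 : (96 : F) * (B (N ρ 4 5 x) (N ρ 0 8 u') - -(6 : F)⁻¹ * (B (N ρ 4 8 x) (N ρ 6 8 u') + B (N ρ 5 8 x) (N ρ 6 8 u'))) = 0 := by
          linear_combination a0 + (b46 + b56) + 16 * (B (N ρ 4 8 x) (N ρ 6 8 u') + B (N ρ 5 8 x) (N ρ 6 8 u')) * i6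
        exact (mul_eq_zero.1 h7).resolve_left h96
      · show B (N ρ 4 5 x - (-(6 : F)⁻¹) • (N ρ 4 8 x + (1 : F) • N ρ 5 8 x)) (N ρ 7 8 u') = 0
        rw [map_sub, LinearMap.sub_apply, map_smul, LinearMap.smul_apply, map_add, LinearMap.add_apply, one_smul, smul_eq_mul, a7]
        have h7 : (96 : F) * (B (N ρ 4 5 x) (N ρ 0 8 u') - -(6 : F)⁻¹ * (B (N ρ 4 8 x) (N ρ 7 8 u') + B (N ρ 5 8 x) (N ρ 7 8 u'))) = 0 := by
          linear_combination a0 + (b47 + b57) + 16 * (B (N ρ 4 8 x) (N ρ 7 8 u') + B (N ρ 5 8 x) (N ρ 7 8 u')) * i6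
        exact (mul_eq_zero.1 h7).resolve_left h96)
    have h7 := hfinal _ h4
    have i6 : (6 : F) * (6 : F)⁻¹ = 1 := mul_inv_cancel₀ h6
    have h8 : (2 * 2 * 2 * 5 : F) * B x y = 0 := by linear_combination 6 * h7 + 2 * B x y * i6
    rcases mul_eq_zero.1 h8 with h | h
    · exact absurd h (mul_ne_zero (mul_ne_zero (mul_ne_zero h2 h2) h2) h5)
    · exact hxy h
  · -- `δ = -1`, `κ = -1/8`
    have h88 : (8 : F) ≠ 0 := by
      have : (8 : F) = 2 * (2 * 2) := by norm_num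
      rw [this]
      exact mul_ne_zero h2 (mul_ne_zero h2 h2)
    have i8 : (8 : F) * (8 : F)⁻¹ = 1 := mul_inv_cancel₀ h88
    have h4 := hmain (-(8 : F)⁻¹) (by
      intro u' hu'
      have a4 := g48 x hx u' hu'
      have a5 := g58 x hx u' hu'
      have a0 := g08 x hx u' hu'
      have a6 := g68 x hx u' hu'
      have a7 := g78 x hx u' hu'
      have b44 := n88 x hx u' hu' 4 4 (by decide) (by decide)
      have b45 := n88 x hx u' hu' 4 5 (by decide) (by decide)
      have b46 := n88 x hx u' hu' 4 6 (by decide) (by decide)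
      have b47 := n88 x hx u' hu' 4 7 (by decide) (by decide)
      have b54 := n88 x hx u' hu' 5 4 (by decide) (by decide)
      have b55 := n88 x hx u' hu' 5 5 (by decide) (by decide)
      have b56 := n88 x hx u' hu' 5 6 (by decide) (by decide)
      have b57 := n88 x hx u' hu' 5 7 (by decide) (by decide)
      rw [if_pos rfl] at b44 b55
      rw [if_neg (by decide)] at b45 b46 b47 b54 b56 b57
      have h128 : (128 : F) ≠ 0 := by
        have : (128 : F) = 16 * 8 := by norm_num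
        rw [this]
        exact mul_ne_zero h16 h88
      rw [hd] at a5 a0 ⊢
      have a0' : B (N ρ 4 5 x) (N ρ 0 8 u') = 0 := by
        have h96 : (96 : F) ≠ 0 := by
          have : (96 : F) = 16 * 6 := by norm_num
          rw [this]
          exact mul_ne_zero h16 h6
        have h7 : (96 : F) * B (N ρ 4 5 x) (N ρ 0 8 u') = 0 := by linear_combination a0
        exact (mul_eq_zero.1 h7).resolve_left h96
      apply hj4
      · show B (N ρ 4 5 x - (-(8 : F)⁻¹) • (N ρ 4 8 x + (-1 : F) • N ρ 5 8 x)) (N ρ 4 8 u') = 0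
        rw [map_sub, LinearMap.sub_apply, map_smul, LinearMap.smul_apply, map_add, LinearMap.add_apply, map_smul,
          LinearMap.smul_apply, smul_eq_mul, smul_eq_mul]
        have h7 : (128 : F) * (B (N ρ 4 5 x) (N ρ 4 8 u') - -(8 : F)⁻¹ * (B (N ρ 4 8 x) (N ρ 4 8 u') + -1 * B (N ρ 5 8 x) (N ρ 4 8 u'))) = 0 := by
          linear_combination 8 * a4 + (b44 - b54) + 16 * (B (N ρ 4 8 x) (N ρ 4 8 u') - B (N ρ 5 8 x) (N ρ 4 8 u')) * i8
        exact (mul_eq_zero.1 h7).resolve_left h128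
      · show B (N ρ 4 5 x - (-(8 : F)⁻¹) • (N ρ 4 8 x + (-1 : F) • N ρ 5 8 x)) (N ρ 5 8 u') = 0
        rw [map_sub, LinearMap.sub_apply, map_smul, LinearMap.smul_apply, map_add, LinearMap.add_apply, map_smul,
          LinearMap.smul_apply, smul_eq_mul, smul_eq_mul]
        have h7 : (128 : F) * (B (N ρ 4 5 x) (N ρ 5 8 u') - -(8 : F)⁻¹ * (B (N ρ 4 8 x) (N ρ 5 8 u') + -1 * B (N ρ 5 8 x) (N ρ 5 8 u'))) = 0 := by
          linear_combination 8 * a5 + (b45 - b55) + 16 * (B (N ρ 4 8 x) (N ρ 5 8 u') - B (N ρ 5 8 x) (N ρ 5 8 u')) * i8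
        exact (mul_eq_zero.1 h7).resolve_left h128
      · show B (N ρ 4 5 x - (-(8 : F)⁻¹) • (N ρ 4 8 x + (-1 : F) • N ρ 5 8 x)) (N ρ 6 8 u') = 0
        rw [map_sub, LinearMap.sub_apply, map_smul, LinearMap.smul_apply, map_add, LinearMap.add_apply, map_smul,
          LinearMap.smul_apply, smul_eq_mul, smul_eq_mul, a6, a0']
        have h7 : (128 : F) * (0 - -(8 : F)⁻¹ * (B (N ρ 4 8 x) (N ρ 6 8 u') + -1 * B (N ρ 5 8 x) (N ρ 6 8 u'))) = 0 := by
          linear_combination (b46 - b56) + 16 * (B (N ρ 4 8 x) (N ρ 6 8 u') - B (N ρ 5 8 x) (N ρ 6 8 u')) * i8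
        exact (mul_eq_zero.1 h7).resolve_left h128
      · show B (N ρ 4 5 x - (-(8 : F)⁻¹) • (N ρ 4 8 x + (-1 : F) • N ρ 5 8 x)) (N ρ 7 8 u') = 0
        rw [map_sub, LinearMap.sub_apply, map_smul, LinearMap.smul_apply, map_add, LinearMap.add_apply, map_smul,
          LinearMap.smul_apply, smul_eq_mul, smul_eq_mul, a7, a0']
        have h7 : (128 : F) * (0 - -(8 : F)⁻¹ * (B (N ρ 4 8 x) (N ρ 7 8 u') + -1 * B (N ρ 5 8 x) (N ρ 7 8 u'))) = 0 := by
          linear_combination (b47 - b57) + 16 * (B (N ρ 4 8 x) (N ρ 7 8 u') - B (N ρ 5 8 x) (N ρ 7 8 u')) * i8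
        exact (mul_eq_zero.1 h7).resolve_left h128)
    have h7 := hfinal _ h4
    have h8 : (2 * 3 * 3 * 3 : F) * B x y = 0 := by linear_combination 8 * h7 + 2 * B x y * i8
    rcases mul_eq_zero.1 h8 with h | h
    · exact absurd h (mul_ne_zero (mul_ne_zero (mul_ne_zero h2 h3) h3) h3)
    · exact hxy h

end

/-- **`n = 9`, `p ≠ 2, 3, 5`** -/
theorem nine7 {F : Type u} [Field F] [Finite F] (h2 : (2 : F) ≠ 0) (h3 : (3 : F) ≠ 0) (h5 : (5 : F) ≠ 0)
    {ψ : A9 →* Gh F} (hψ : ∀ a, ad F (ψ a) = 1 → a = 1) : ev (V F (ψ (P 9 l3))) 1 ≠ 20 := by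
  intro h20
  have hn : (8 : ℕ) ≤ 9 := by norm_num
  set! ρ : Representation F A9 (D1 → F) := MonoidHom.comp (V F) ψ with hρ
  obtain ⟨tt, -⟩ := types hn h2 hψ
  have e0 : om ρ 1 = 56 := by rw [om_one, finrank_V]; norm_num
  have et : om ρ (P 9 lt) = 8 := by
    rw [om_prime ρ Nat.prime_two (orderOf_P hn (by decide +kernel)), finrank_V, show ev (ρ (P 9 lt)) 1 = 32 from tt]
    norm_num
  have e3 : om ρ (P 9 l3) = 2 := by
    rw [om_prime ρ Nat.prime_three (orderOf_P hn (by decide +kernel)), finrank_V, show ev (ρ (P 9 l3)) 1 = 20 from h20]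
    norm_num
  have h := dim_A4 hn h2 ρ h3
  rw [e0, et, e3] at h
  have h8 : finrank F ↥(inv ρ (Tg 9 gA4)) = 8 := by
    have : ((finrank F ↥(inv ρ (Tg 9 gA4)) : ℕ) : ℚ) = 8 := by linarith only [h]
    exact_mod_cast this
  exact gram_false (ρ := ρ) (cfgT9 h2 h5 hψ) (fun g x y => sf_V (ψ g) x y) h3 h8

end Cfsg.Agent.R2.T1.Odd
end

-- part: R2/T1/Odd/NoCov
section
/-!
# S5771, ODD5: the preimage of `A_n`, `n ≥ 8`, is not a proper double cover (helper11)

In the cover case double transpositions lift to square roots of `-1`; so the product of four disjoint transpositions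
lifts to an involution `t` conjugate to `-t`, and `dim V_1(t) = 28`, which is not the type of an involution.
-/

set_option autoImplicit false

universe u

namespace Cfsg.Agent.R2.T1.Odd

open Equiv Module Cfsg Cfsg.Lie
open Cfsg.Agent.R2.T1.Art
open Cfsg.Agent.H943.E7V.Block (D1 rho)
open Cfsg.Agent.H952.F4 (ev es matRep MaxAlt)

section lin
variable {F : Type*} [Field F] {W : Type*} [AddCommGroup W] [Module F W]

theorem ev_half [FiniteDimensional F W] (h2 : (2 : F) ≠ 0) {T G : Module.End F W} (hT : ∀ v, T (T v) = v)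
    (hG : ∀ v, G (G v) = -v) (hGT : ∀ v, G (T v) = -T (G v)) : 2 * ev T 1 = finrank F W := by
  have hGi : Function.Injective G := by
    intro v w h
    have h1 := congrArg G h
    rw [hG, hG] at h1
    exact neg_injective h1
  have h1 : (Module.End.eigenspace T 1).map G ≤ Module.End.eigenspace T (-1) := by
    rintro _ ⟨v, hv, rfl⟩
    have hv' : T v = v := by
      have := Module.End.mem_eigenspace_iff.1 hv
      rwa [one_smul] at this
    rw [Module.End.mem_eigenspace_iff, neg_smul, one_smul]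
    have h3 := hGT v
    rw [hv'] at h3
    exact neg_eq_iff_eq_neg.1 h3.symm
  have h2' : (Module.End.eigenspace T (-1)).map G ≤ Module.End.eigenspace T 1 := by
    rintro _ ⟨v, hv, rfl⟩
    have hv' : T v = -v := by
      have := Module.End.mem_eigenspace_iff.1 hv
      rwa [neg_smul, one_smul] at this
    rw [Module.End.mem_eigenspace_iff, one_smul]
    have h3 := hGT v
    rw [hv', map_neg] at h3
    exact (neg_injective h3).symm
  have h3 : finrank F ↥((Module.End.eigenspace T 1).map G) = finrank F ↥(Module.End.eigenspace T 1) :=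
    (LinearEquiv.finrank_eq (Submodule.equivMapOfInjective G hGi _)).symm
  have h4 : finrank F ↥((Module.End.eigenspace T (-1)).map G) = finrank F ↥(Module.End.eigenspace T (-1)) :=
    (LinearEquiv.finrank_eq (Submodule.equivMapOfInjective G hGi _)).symm
  have h5 := Submodule.finrank_mono h1
  have h6 := Submodule.finrank_mono h2'
  have hc : IsCompl (Module.End.eigenspace T 1) (Module.End.eigenspace T (-1)) := by
    constructor
    · rw [Submodule.disjoint_def]
      intro v hv hw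
      rw [Module.End.mem_eigenspace_iff] at hv hw
      rw [one_smul] at hv
      rw [neg_smul, one_smul, hv] at hw
      have h7 : (2 : F) • v = 0 := by rw [two_smul]; nth_rewrite 1 [hw]; exact neg_add_cancel v
      exact (smul_eq_zero.1 h7).resolve_left h2
    · rw [codisjoint_iff, eq_top_iff]
      intro v _
      have h7 : v = (2 : F)⁻¹ • (v + T v) + (2 : F)⁻¹ • (v - T v) := by
        rw [← smul_add, show v + T v + (v - T v) = (2 : F) • v by rw [two_smul]; abel, smul_smul, inv_mul_cancel₀ h2, one_smul]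
      rw [h7]
      refine Submodule.add_mem_sup (Submodule.smul_mem _ _ ?_) (Submodule.smul_mem _ _ ?_)
      · rw [Module.End.mem_eigenspace_iff, one_smul, map_add, hT, add_comm]
      · rw [Module.End.mem_eigenspace_iff, neg_smul, one_smul, map_sub, hT, neg_sub]
  have h7 := Submodule.finrank_add_eq_of_isCompl hc
  have e1 : ev T 1 = finrank F ↥(Module.End.eigenspace T 1) := rfl
  omega

end lin

variable {n : ℕ} [NeZero n] {F : Type u} [Field F]

theorem ct_P (hn : 8 ≤ n) {a b c d : ℕ} (hv : vl 8 [(a, b), (c, d)] = true) (h1 : a ≠ c) (h2 : a ≠ d) (h3 : b ≠ c)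
    (h4 : b ≠ d) : ((P n [(a, b), (c, d)] : ↥(alternatingGroup (Fin n))) : Perm (Fin n)).cycleType = {2, 2} := by
  have h := (vl_iff.1 hv).2
  have e1 := h (a, b) (by simp)
  have e2 := h (c, d) (by simp)
  simp only at e1 e2
  rw [coe_P hn hv, pm_cons, pm_cons, pm_nil, mul_one]
  have key : ∀ {i j : ℕ}, i < 8 → j < 8 → i ≠ j → Fin.ofNat n i ≠ Fin.ofNat n j := fun hi hj hij h =>
    hij (ofNat_inj (by omega) (by omega) h)
  exact ct_swaps (key e1.1 e2.1 h1) (key e1.1 e2.2.1 h2) (key e1.1 e1.2.1 e1.2.2) (key e2.1 e1.2.1 h3.symm)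
    (key e2.1 e2.2.1 e2.2.2) (key e1.2.1 e2.2.1 h4)

/-- a lift commutes with the lifts of order 3 -/
theorem comm_three {x c : Gh F} (hc : c ^ 3 = 1) (h : ad F x * ad F c = ad F c * ad F x) : x * c = c * x := by
  have h1 : x * c * x⁻¹ = c := by
    refine odd_unique (k := 3) (by decide) ?_ ?_ hc
    · rw [map_mul, map_mul, map_inv, h, mul_inv_cancel_right]
    · rw [conj_pow, hc, mul_one, mul_inv_cancel]
  calc x * c = x * c * x⁻¹ * x := by rw [inv_mul_cancel_right]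
    _ = c * x := by rw [h1]

/-- **no double cover for `n ≥ 8`** -/
theorem no_cover [Finite F] (hn : 8 ≤ n) (h2 : (2 : F) ≠ 0) {φ : ↥(alternatingGroup (Fin n)) →* ↥(chevE7.group F)}
    (hφ : Function.Injective φ) : ¬ Cover φ := by
  intro hc
  have hP : ∀ {l r : List (ℕ × ℕ)}, vl 8 l = true → vl 8 r = true → P n (l ++ r) = P n l * P n r := fun h h' =>
    P_append hn h h'
  obtain ⟨a, ha⟩ := ad_surjective (φ (P n [(0, 1), (2, 3)]))
  obtain ⟨g, hg⟩ := ad_surjective (φ (P n [(0, 2), (1, 3)]))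
  have hex : ∀ l : List (ℕ × ℕ), P n l ^ 3 = 1 → ∃ c : Gh F, ad F c = φ (P n l) ∧ c ^ 3 = 1 := fun l hl =>
    odd_lift (k := 3) (by decide) (by rw [← map_pow, hl, map_one])
  have hcube : ∀ l : List (ℕ × ℕ), vl 8 l = true → cd 8 (pwl l 3) = cd 8 [] → P n l ^ 3 = 1 := fun l h h' =>
    P_pow_one hn h h'
  obtain ⟨c, hc1, hc3⟩ := hex [(4, 5), (5, 6)] (hcube _ (by decide) (by decide))
  obtain ⟨d, hd1, hd3⟩ := hex [(5, 6), (6, 7)] (hcube _ (by decide) (by decide))
  have hcom : ∀ {x y : Gh F} {l r : List (ℕ × ℕ)}, ad F x = φ (P n l) → ad F y = φ (P n r) → y ^ 3 = 1 →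
      vl 8 l = true → vl 8 r = true → cd 8 (l ++ r) = cd 8 (r ++ l) → x * y = y * x := by
    intro x y l r hx hy hy3 hl hr h
    refine comm_three hy3 ?_
    rw [hx, hy, ← map_mul, ← map_mul, ← hP hl hr, ← hP hr hl, (P_eq_iff hn (vl_append hl hr) (vl_append hr hl)).2 h]
  have k1 := hcom ha hc1 hc3 (by decide) (by decide) (by decide)
  have k2 := hcom ha hd1 hd3 (by decide) (by decide) (by decide)
  have k3 := hcom hg hc1 hc3 (by decide) (by decide) (by decide)
  have k4 := hcom hg hd1 hd3 (by decide) (by decide) (by decide)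
  have hab : a * (c * d) = c * d * a := by rw [← mul_assoc, k1, mul_assoc, k2, mul_assoc]
  have hgb : g * (c * d) = c * d * g := by rw [← mul_assoc, k3, mul_assoc, k4, mul_assoc]
  have hb : ad F (c * d) = φ (P n [(4, 5), (6, 7)]) := by
    rw [map_mul, hc1, hd1, ← map_mul, ← hP (by decide) (by decide)]
    exact congrArg φ ((P_eq_iff hn (by decide) (by decide)).2 (by decide))
  have hga : ad F (g * a) = φ (P n [(0, 3), (1, 2)]) := by
    rw [map_mul, ha, hg, ← map_mul, ← hP (by decide) (by decide)]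
    exact congrArg φ ((P_eq_iff hn (by decide) (by decide)).2 (by decide))
  have s1 := hc.sq (by omega) hφ (ct_P hn (by decide) (by decide) (by decide) (by decide) (by decide)) ha
  have s2 := hc.sq (by omega) hφ (ct_P hn (by decide) (by decide) (by decide) (by decide) (by decide)) hg
  have s3 := hc.sq (by omega) hφ (ct_P hn (by decide) (by decide) (by decide) (by decide) (by decide)) hb
  have s4 := hc.sq (by omega) hφ (ct_P hn (by decide) (by decide) (by decide) (by decide) (by decide)) hga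
  obtain ⟨b, hbdef⟩ : ∃ b, b = c * d := ⟨_, rfl⟩
  rw [← hbdef] at hab hgb hb s3
  have v1 : ∀ v, V F a (V F a v) = -v := fun v => by rw [← V_mul, s1]; rfl
  have v2 : ∀ v, V F g (V F g v) = -v := fun v => by rw [← V_mul, s2]; rfl
  have v3 : ∀ v, V F b (V F b v) = -v := fun v => by rw [← V_mul, s3]; rfl
  have v4 : ∀ v, V F g (V F a (V F g (V F a v))) = -v := fun v => by rw [← V_mul, ← V_mul, ← V_mul, mul_assoc (g * a), s4]; rfl
  have v5 : ∀ v, V F a (V F b v) = V F b (V F a v) := fun v => by rw [← V_mul, hab, V_mul]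
  have v6 : ∀ v, V F g (V F b v) = V F b (V F g v) := fun v => by rw [← V_mul, hgb, V_mul]
  have v7 : ∀ v, V F g (V F a v) = - V F a (V F g v) := by
    intro v
    have e1 := congrArg (V F g) (v4 (V F a v))
    rw [v2, v1, map_neg, map_neg, map_neg, neg_neg] at e1
    rw [← map_neg, ← map_neg] at e1
    rw [e1]
    simp only [_root_.map_neg, _root_.neg_neg]
  have t1 : ∀ v, V F (a * b) (V F (a * b) v) = v := by
    intro v
    rw [V_mul, V_mul, ← v5, v3, map_neg, map_neg, v1, neg_neg]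
  have t2 : ∀ v, V F g (V F (a * b) v) = - V F (a * b) (V F g v) := by
    intro v
    rw [V_mul, V_mul, v7, v6]
  have key := ev_half h2 (T := V F (a * b)) (G := V F g) t1 v2 t2
  rw [finrank_V] at key
  have hinv : (a * b) * (a * b) = 1 := by
    apply faithful
    refine LinearMap.ext fun v => ?_
    rw [V_mul, t1]
    rfl
  have hne : ad F (a * b) ≠ 1 := by
    rw [map_mul, ha, hb, ← map_mul, ← hP (by decide) (by decide)]
    intro h
    have h3 := hφ (h.trans (map_one φ).symm)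
    exact P_ne hn (l := [(0, 1), (2, 3)] ++ [(4, 5), (6, 7)]) (l' := []) (by decide) rfl (by decide) (by rw [h3, P_nil])
  have h9 := (two h2 hinv hne).1
  omega

end Cfsg.Agent.R2.T1.Odd
end

-- part: R2/T1/Main/Skel
section
/-!
# S5771: the assembly (helper24)

`Open F` : the statements which are still to be supplied; `final_of`.
-/

set_option autoImplicit false

namespace Cfsg.Agent.R2.T1.Main

open Cfsg Cfsg.Lie Module Equiv Equiv.Perm
open Cfsg.Agent.H943.E7V.Block (D1 rho)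
open Cfsg.Agent.H952.F4 (ev es MaxAlt)
open Cfsg.Agent.R2.T1 Cfsg.Agent.R2.T1.Odd Cfsg.Agent.R2.T1.Nodd

universe u

variable {F : Type u} [Field F]

/-- `n = 8`, odd characteristic different from 5 -/
theorem odd8 [Finite F] (h2 : (2 : F) ≠ 0) (h5 : (5 : F) ≠ 0) {H : Subgroup ↥(chevE7.group F)}
    {φ : ↥(alternatingGroup (Fin 8)) →* ↥(chevE7.group F)} {ψ : ↥(alternatingGroup (Fin 8)) →* Gh F}
    (hM : MaxAlt H 8 φ) (hL : Lift φ ψ) : False := by
  have := Fintype.ofFinite F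
  obtain ⟨p, hpF⟩ := CharP.exists F
  have hp : Fact p.Prime := ⟨CharP.char_is_prime F p⟩
  have hp2 : p ≠ 2 := by
    rintro rfl
    exact h2 (by exact_mod_cast CharP.cast_eq_zero F 2)
  have hp5 : p ≠ 5 := by
    rintro rfl
    exact h5 (by exact_mod_cast CharP.cast_eq_zero F 5)
  obtain ⟨a, b, c, hs, hS, -⟩ := exists_sev h2 h5 hM hL
  have : CharP (AlgebraicClosure F) p := charP_of_injective_algebraMap (algebraMap F (AlgebraicClosure F)).injective p
  exact P3.no_eight (algebraMap F (AlgebraicClosure F)) hp2 hp5 hM hL hs hS (P3.pq (p := p) h2 (Nodd.lift_inj hM hL) hs)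

/-- the missing statements -/
structure Open (F : Type u) [Field F] : Prop where
  pat8 : ∀ (H : Subgroup ↥(chevE7.group F)) (φ : ↥(alternatingGroup (Fin 8)) →* ↥(chevE7.group F))
    (ψ : ↥(alternatingGroup (Fin 8)) →* Gh F), MaxAlt H 8 φ → Lift φ ψ → (2 : F) = 0 → False
  big2 : ∀ (n : ℕ) (H : Subgroup ↥(chevE7.group F)) (φ : ↥(alternatingGroup (Fin n)) →* ↥(chevE7.group F))
    (ψ : ↥(alternatingGroup (Fin n)) →* Gh F), 9 ≤ n → MaxAlt H n φ → Lift φ ψ → (2 : F) = 0 → False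

theorem final_of [Fintype F] (hO : Open F) (H : Subgroup ↥(chevE7.group F)) (hH : IsCoatom H)
    (n : ℕ) (hn : 5 ≤ n) (hA : Nonempty (↥(generalizedFittingSubgroup ↥H) ≃* ↥(alternatingGroup (Fin n)))) :
    n = 6 ∨ n = 7 := by
  have hsimple : IsSimpleGroup ↥(chevE7.group F) := (S1054.result chevE7 (by simp)).1
  have : Finite ↥(chevE7.group F) := inferInstance
  obtain ⟨φ, hM⟩ := Cfsg.Agent.H952.F4.MaxA.exists_maxAlt hH hn hA
  by_contra hne
  push Not at hne
  obtain ⟨hne6, hne7⟩ := hne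
  have h5 : n ≠ 5 := by
    rintro rfl
    exact Five.no_five hM
  have h8 : 8 ≤ n := by omega
  have hNZ : NeZero n := ⟨by omega⟩
  have hLex : ∃ ψ : ↥(alternatingGroup (Fin n)) →* Gh F, Lift φ ψ := by
    rcases exists_lift hn hM.inj with ⟨ψ, hL⟩ | ⟨h2, hc⟩
    · exact ⟨ψ, hL⟩
    · exact (no_cover h8 h2 hM.inj hc).elim
  obtain ⟨ψ, hL⟩ := hLex
  by_cases h2 : (2 : F) = 0
  · by_cases h9 : 9 ≤ n
    · exact hO.big2 n H φ ψ h9 hM hL h2
    · obtain rfl : n = 8 := by omega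
      exact hO.pat8 H φ ψ hM hL h2
  -- odd characteristic
  have hF5 : (5 : F) = 0 → (3 : F) ≠ 0 := by
    intro h h3
    have h' : (1 : F) = 0 := by linear_combination 2 * h3 - h
    exact one_ne_zero h'
  rcases le_ten h2 hM hL with h9 | ⟨rfl, h10⟩
  swap
  · have h7 : (7 : F) ≠ 0 := by
      intro h7
      have h' : (1 : F) = 0 := by linear_combination 3 * h10 - 2 * h7
      exact one_ne_zero h'
    exact nine5 h2 (hF5 h10) (Nodd.lift_inj hM hL) (by norm_num) h7 (d3_twenty h2 (hF5 h10) (by norm_num) le_rfl hM hL)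
  rcases (show n = 9 ∨ n = 8 by omega) with rfl | rfl
  · by_cases h3 : (3 : F) = 0
    · exact P3.odd9_three h3 hM hL
    · have h20 := d3_twenty h2 h3 (by norm_num) (by norm_num) hM hL
      by_cases h7 : (7 : F) = 0
      · have h5' : (5 : F) ≠ 0 := by
          intro h5'
          have h' : (1 : F) = 0 := by linear_combination 3 * h5' - 2 * h7
          exact one_ne_zero h'
        exact nine7 h2 h3 h5' (Nodd.lift_inj hM hL) h20
      · exact nine5 h2 h3 (Nodd.lift_inj hM hL) le_rfl h7 h20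
  · by_cases h5' : (5 : F) = 0
    · exact E5.eight5 hM hL h5' (d3_twenty h2 (hF5 h5') le_rfl (by norm_num) hM hL)
    · exact odd8 h2 h5' hM hL

end Cfsg.Agent.R2.T1.Main
end

private theorem dce_f5056e4602af : _root_.True := by
  try have : _root_.True := by simp only [_root_.Cfsg.Agent.R2.T1.Odd.N.eq_1]
  exact _root_.True.intro
end

-- part: R2/T1/Main/Two
section
set_option linter.all false
open scoped Cfsg.Agent.FastGrp

-- part: R2/T1/B2/T29
section
/-!
# S5771, big2 (helper11): pattern T2 for `n = 9`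

* `gen9b` : `A_9` is generated by elements `x` of type `3²`, `y` of type `7` with `x y` of type `7`;
* `noT2_9` : `(3², 7) = (32, 20)` is impossible for `n = 9` (Scott).
-/

set_option autoImplicit false

namespace Cfsg.Agent.R2.T1.B2

open Cfsg Cfsg.Lie Module Equiv Equiv.Perm
open Cfsg.Agent.H943.E7V.Block (D1)
open Cfsg.Agent.H952.F4 (ev es GenT MaxAlt)
open Cfsg.Agent.H952.F4.Scott (scott_form)
open Cfsg.Agent.R2.T1

universe u

theorem gen9b : GenT 9 {3, 3} {7} {7} :=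
  Cfsg.Agent.H952.F4.Gen.genT_of (n := 7) (c[0, 2, 5] * c[3, 7, 6]) (c[1, 6, 7, 3, 2, 4, 8]) (by decide +kernel)
    (by decide +kernel)
    ![[],
    [],
    [2, 2, 1, 3, 0, 3, 0, 3, 0, 2, 1, 3],
    [1, 2, 0, 3, 3, 0, 2, 2, 0, 3, 1],
    [2, 2, 1, 2, 0, 3, 1, 3, 3, 0, 2],
    [3, 0, 2, 1, 3, 1, 2, 1, 3, 0, 2],
    [0, 2, 1, 2, 1, 3, 0, 3, 0, 3],
    [2, 1, 2, 2, 0, 2, 1, 3, 0, 2, 2, 2],
    [1, 2, 1, 2, 0, 3, 0, 3, 1, 2]]
    (by decide +kernel) (by decide +kernel) (by decide +kernel) (by decide +kernel)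

/-- **pattern T2 is impossible for `n = 9`** -/
theorem noT2_9 {F : Type u} [Field F] [Finite F] {H : Subgroup ↥(chevE7.group F)}
    {φ : ↥(alternatingGroup (Fin 9)) →* ↥(chevE7.group F)} (hM : MaxAlt H 9 φ)
    {ψ : ↥(alternatingGroup (Fin 9)) →* Gh F} (hψ : Lift φ ψ)
    (h33 : ∀ a : ↥(alternatingGroup (Fin 9)), (a : Perm (Fin 9)).cycleType = {3, 3} → ev (V F (ψ a)) 1 = 32)
    (h7 : ∀ a : ↥(alternatingGroup (Fin 9)), (a : Perm (Fin 9)).cycleType = {7} → ev (V F (ψ a)) 1 = 20) : False := by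
  obtain ⟨a, b, hgen, ha, hb, hab⟩ := gen9b
  have hs := scott_form (V := D1 → F) (MonoidHom.comp (V F) ψ) hgen (sf F) (fun v hv => sf_nondeg' hv)
    (fun g v w => sf_V (ψ g) v w)
  have e1 : ev ((MonoidHom.comp (V F) ψ) a) 1 = 32 := h33 a ha
  have e2 : ev ((MonoidHom.comp (V F) ψ) b) 1 = 20 := h7 b hb
  have e3 : ev ((MonoidHom.comp (V F) ψ) (a * b)) 1 = 20 := h7 (a * b) hab
  rw [e1, e2, e3, finrank_V, no_fixed hM (by norm_num) (by norm_num) hψ, finrank_bot] at hs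
  omega

end Cfsg.Agent.R2.T1.B2
end

-- part: R2/T1/Main/Two
section
/-!
# S5771: characteristic 2 (helper24)

* `Open2 F` : the pattern `(20, 32, 16, 20, 4 | 12)`, `10 ≤ n ≤ 14`; `open_of : Open2 F → Open F`.
-/

set_option autoImplicit false

namespace Cfsg.Agent.R2.T1.Main

open Cfsg Cfsg.Lie Module Equiv Equiv.Perm
open Cfsg.Agent.H943.E7V.Block (D1 rho)
open Cfsg.Agent.H952.F4 (ev es MaxAlt)
open Cfsg.Agent.R2.T1 Cfsg.Agent.R2.T1.Pat2

universe u

variable {F : Type u} [Field F]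

/-- the missing statement -/
def Open2 (F : Type u) [Field F] : Prop :=
  ∀ (n : ℕ) (H : Subgroup ↥(chevE7.group F)) (φ : ↥(alternatingGroup (Fin n)) →* ↥(chevE7.group F))
    (ψ : ↥(alternatingGroup (Fin n)) →* Gh F), 10 ≤ n → n ≤ 14 → MaxAlt H n φ → Lift φ ψ → (2 : F) = 0 →
    DV ψ {5} 16 → DL ψ {5} 33 → DV ψ {3} 20 → DL ψ {3} 49 → DV ψ {3, 3} 32 → DL ψ {3, 3} 67 → DV ψ {7} 20 →
    (DV ψ {5, 3} 4 ∨ DV ψ {5, 3} 12) → False

theorem big2 [Finite F] (hO : Open2 F) {n : ℕ} {H : Subgroup ↥(chevE7.group F)}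
    {φ : ↥(alternatingGroup (Fin n)) →* ↥(chevE7.group F)} {ψ : ↥(alternatingGroup (Fin n)) →* Gh F} (hn : 9 ≤ n)
    (hM : MaxAlt H n φ) (hL : Lift φ ψ) (h2 : (2 : F) = 0) : False := by
  have hNZ : NeZero n := ⟨by omega⟩
  have hinj : Function.Injective ψ := by
    intro a b hab
    apply hM.inj
    rw [← hL a, ← hL b, hab]
  have h5F : (5 : F) ≠ 0 := by
    intro h
    have h' : (1 : F) = 0 := by linear_combination h - 2 * h2
    exact one_ne_zero h'
  have h14 : n ≤ 14 := B2.le14 h5F hinj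
  have hfix := no_fixed hM (by omega) h14 hL
  obtain ⟨⟨h5, h5'⟩, ⟨⟨h3, h3'⟩, ⟨h33, h33'⟩, h7, h53⟩ | ⟨⟨h3, h3'⟩, ⟨h33, h33'⟩, h7, h53⟩⟩ := pat2 (by omega) h2 hinj
  · rcases h53 with h53 | h53
    · exact B2.noT1 hn h2 h3 h33 h5 h53
    · rcases h7 with h7 | h7 | h7
      · exact B2.noT1x (by omega) h2 h3 h33 h7 h53
      · exact Msk.t3_false h2 (Nodd.lift_inj hM hL) hn hfix h3 h33 h5 h7 h53
      · exact B2.no20 (by omega) h2 h3 h33 h7 hfix
  · by_cases h9 : n = 9
    · subst h9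
      exact B2.noT2_9 hM hL h33 h7
    · exact hO n H φ ψ (by omega) h14 hM hL h2 h5 h5' h3 h3' h33 h33' h7 h53

theorem open_of [Finite F] (hO : Open2 F) : Open F where
  pat8 _ _ _ hM hL h2 := Pat2.no8 h2 hM hL
  big2 _ _ _ _ hn hM hL h2 := big2 hO hn hM hL h2

end Cfsg.Agent.R2.T1.Main
end
end

-- part: R2/T1/Main/Fin
section
set_option linter.all false
open scoped Cfsg.Agent.FastGrp

-- part: R2/T1/B2/Card
section
/-!
# S5771, big2 (helper11): the order of `H` divides `n!`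

* `exists_emb` : `H` embeds in `S_n`;
* `card_dvd` : `|H|` divides `n!`;
* `not_dvd`, `card_lt` : `2 ^ 27` does not divide `|H|`, and `4 |H| < q ^ 76`, for `7 ≤ n ≤ 22`.
-/

set_option autoImplicit false

namespace Cfsg.Agent.R2.T1.B2

open Cfsg Cfsg.Lie Module Equiv Equiv.Perm
open Cfsg.Agent.H952.F4 (MaxAlt)
open Cfsg.Agent.R2.T1

universe u

variable {F : Type u} [Field F] [Finite F] {H : Subgroup ↥(chevE7.group F)} {n : ℕ}
  {φ : ↥(alternatingGroup (Fin n)) →* ↥(chevE7.group F)}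

/-- **`H` embeds in `S_n`** -/
theorem exists_emb (hn : 7 ≤ n) (hM : MaxAlt H n φ) : ∃ f : ↥H →* Perm (Fin n), Function.Injective f := by
  have hex : ∀ (h : ↥H) (a : ↥(alternatingGroup (Fin n))), ∃ b, φ b = (h : ↥(chevE7.group F)) * φ a * (h : ↥(chevE7.group F))⁻¹ :=
    fun h a => hM.norm h h.2 _ ⟨a, rfl⟩
  choose f hf using hex
  have fmul : ∀ g h a, f (g * h) a = f g (f h a) := by
    intro g h a
    apply hM.inj
    rw [hf, hf, hf, Subgroup.coe_mul]
    group
  have fone : ∀ a, f 1 a = a := by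
    intro a
    apply hM.inj
    rw [hf, Subgroup.coe_one, one_mul, inv_one, mul_one]
  let e : ↥H →* MulAut ↥(alternatingGroup (Fin n)) := MonoidHom.mk' (fun h =>
    { toFun := f h
      invFun := f h⁻¹
      left_inv := fun a => by rw [← fmul, inv_mul_cancel, fone]
      right_inv := fun a => by rw [← fmul, mul_inv_cancel, fone]
      map_mul' := fun a b => by
        apply hM.inj
        rw [hf, map_mul, map_mul, hf, hf]
        group }) (fun g h => by
    ext1 a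
    exact fmul g h a)
  obtain ⟨ψ, hψ⟩ := Cfsg.Agent.StandardComponent.AltAut.exists_autHom n hn
  refine ⟨ψ.comp e, (injective_iff_map_eq_one _).2 fun h hh => ?_⟩
  have h1 : ψ (e h) = 1 := hh
  apply Subtype.ext
  apply centralizer_eq hM (by omega)
  intro a
  have h2 : f h a = a := by
    apply Subtype.ext
    have h3 := hψ (e h) a
    rw [h1, one_mul, inv_one, mul_one] at h3
    exact h3
  have h4 := hf h a
  rw [h2] at h4
  rw [h4, mul_assoc, inv_mul_cancel, mul_one, ← h4]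

theorem card_dvd (hn : 7 ≤ n) (hM : MaxAlt H n φ) : Nat.card ↥H ∣ n.factorial := by
  obtain ⟨f, hf⟩ := exists_emb hn hM
  have h1 := Subgroup.card_dvd_of_injective f hf
  rwa [Nat.card_eq_fintype_card (α := Perm (Fin n)), Fintype.card_perm, Fintype.card_fin] at h1

theorem not_dvd (hn : 7 ≤ n) (hn' : n ≤ 22) (hM : MaxAlt H n φ) : ¬ 2 ^ 27 ∣ Nat.card ↥H := by
  intro h
  have h1 := (h.trans (card_dvd hn hM)).trans (Nat.factorial_dvd_factorial hn')
  exact absurd h1 (by decide +kernel)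

theorem card_lt (hn : 7 ≤ n) (hn' : n ≤ 22) (hM : MaxAlt H n φ) : 4 * Nat.card ↥H < Nat.card F ^ 76 := by
  have h1 : Nat.card ↥H ≤ Nat.factorial 22 :=
    Nat.le_of_dvd (Nat.factorial_pos 22) ((card_dvd hn hM).trans (Nat.factorial_dvd_factorial hn'))
  have h2 : 2 ^ 76 ≤ Nat.card F ^ 76 := Nat.pow_le_pow_left Finite.one_lt_card 76
  have h3 : 4 * Nat.factorial 22 < 2 ^ 76 := by decide +kernel
  omega

end Cfsg.Agent.R2.T1.B2
end

-- part: R2/T1/Main/Fin
section
/-!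
# S5771: the end (helper24)
-/

set_option autoImplicit false

namespace Cfsg.Agent.R2.T1.Main

open Cfsg Cfsg.Lie Module Equiv Equiv.Perm
open Cfsg.Agent.H943.E7V.Block (D1 rho)
open Cfsg.Agent.H952.F4 (ev es MaxAlt)
open Cfsg.Agent.R2.T1 Cfsg.Agent.R2.T1.Pat2

universe u

variable {F : Type u} [Field F]

theorem open2 [Finite F] : Open2 F := by
  intro n H φ ψ hn h14 hM hL h2 h5 _ h3 _ h33 _ _ h53
  refine T2p.t2_false h2 hn hM hL (Nodd.lift_inj hM hL) h3 h33 h5 ?_ (fun h22 => B2.card_lt (by omega) h22 hM) ?_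
  · intro a ha
    rcases h53 with h | h
    · rw [h a ha]; norm_num
    · rw [h a ha]
  · intro h22 S hS hS0 hs
    exact B2.ts2 h2 hM.coatom (B2.not_dvd (by omega) h22 hM) hS hS0 hs

/-- **S5771** -/
theorem final [Fintype F] (H : Subgroup ↥(chevE7.group F)) (hH : IsCoatom H) (n : ℕ) (hn : 5 ≤ n)
    (hA : Nonempty (↥(generalizedFittingSubgroup ↥H) ≃* ↥(alternatingGroup (Fin n)))) : n = 6 ∨ n = 7 := by
  have : Finite F := inferInstance
  exact final_of (open_of open2) H hH n hn hA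

end Cfsg.Agent.R2.T1.Main
end
end
end
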